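import Cfsg.Agent.CosetCert.HeCentIndex49980.Defs

/-! Generated: kernel checks. -/

set_option Elab.async false

namespace Cfsg.Agent.CosetCert.HeCentIndex49980

theorem coset_okAt22500 : allFrom data.checkCoset 22500 750 = true := by decide +kernel

theorem coset_okAt23250 : allFrom data.checkCoset 23250 750 = true := by decide +kernel

theorem coset_okAt24000 : allFrom data.checkCoset 24000 750 = true := by decide +kernel

theorem coset_okAt24750 : allFrom data.checkCoset 24750 750 = true := by decide +kernel

theorem coset_okAt25500 : allFrom data.checkCoset 25500 750 = true := by decide +kernel

theorem coset_okAt26250 : allFrom data.checkCoset 26250 750 = true := by decide +kernel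

theorem coset_okAt27000 : allFrom data.checkCoset 27000 750 = true := by decide +kernel

theorem coset_okAt27750 : allFrom data.checkCoset 27750 750 = true := by decide +kernel

theorem coset_okAt28500 : allFrom data.checkCoset 28500 750 = true := by decide +kernel

theorem coset_okAt29250 : allFrom data.checkCoset 29250 750 = true := by decide +kernel

end Cfsg.Agent.CosetCert.HeCentIndex49980
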