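import Cfsg.Agent.CosetCert.HeCentIndex49980.Defs

/-! Generated: kernel checks. -/

set_option Elab.async false

namespace Cfsg.Agent.CosetCert.HeCentIndex49980

theorem coset_okAt30000 : allFrom data.checkCoset 30000 750 = true := by decide +kernel

theorem coset_okAt30750 : allFrom data.checkCoset 30750 750 = true := by decide +kernel

theorem coset_okAt31500 : allFrom data.checkCoset 31500 750 = true := by decide +kernel

theorem coset_okAt32250 : allFrom data.checkCoset 32250 750 = true := by decide +kernel

theorem coset_okAt33000 : allFrom data.checkCoset 33000 750 = true := by decide +kernel

theorem coset_okAt33750 : allFrom data.checkCoset 33750 750 = true := by decide +kernel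

theorem coset_okAt34500 : allFrom data.checkCoset 34500 750 = true := by decide +kernel

theorem coset_okAt35250 : allFrom data.checkCoset 35250 750 = true := by decide +kernel

theorem coset_okAt36000 : allFrom data.checkCoset 36000 750 = true := by decide +kernel

theorem coset_okAt36750 : allFrom data.checkCoset 36750 750 = true := by decide +kernel

end Cfsg.Agent.CosetCert.HeCentIndex49980
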