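import Cfsg.Agent.CosetCert.HeCentIndex49980.Defs

/-! Generated: kernel checks. -/

set_option Elab.async false

namespace Cfsg.Agent.CosetCert.HeCentIndex49980

theorem coset_okAt37500 : allFrom data.checkCoset 37500 750 = true := by decide +kernel

theorem coset_okAt38250 : allFrom data.checkCoset 38250 750 = true := by decide +kernel

theorem coset_okAt39000 : allFrom data.checkCoset 39000 750 = true := by decide +kernel

theorem coset_okAt39750 : allFrom data.checkCoset 39750 750 = true := by decide +kernel

theorem coset_okAt40500 : allFrom data.checkCoset 40500 750 = true := by decide +kernel

theorem coset_okAt41250 : allFrom data.checkCoset 41250 750 = true := by decide +kernel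

theorem coset_okAt42000 : allFrom data.checkCoset 42000 750 = true := by decide +kernel

theorem coset_okAt42750 : allFrom data.checkCoset 42750 750 = true := by decide +kernel

theorem coset_okAt43500 : allFrom data.checkCoset 43500 750 = true := by decide +kernel

theorem coset_okAt44250 : allFrom data.checkCoset 44250 750 = true := by decide +kernel

end Cfsg.Agent.CosetCert.HeCentIndex49980
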