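import Cfsg.Agent.CosetCert.HeCentIndex49980.Defs

/-! Generated: kernel checks. -/

set_option Elab.async false

namespace Cfsg.Agent.CosetCert.HeCentIndex49980

theorem coset_okAt45000 : allFrom data.checkCoset 45000 750 = true := by decide +kernel

theorem coset_okAt45750 : allFrom data.checkCoset 45750 750 = true := by decide +kernel

theorem coset_okAt46500 : allFrom data.checkCoset 46500 750 = true := by decide +kernel

theorem coset_okAt47250 : allFrom data.checkCoset 47250 750 = true := by decide +kernel

theorem coset_okAt48000 : allFrom data.checkCoset 48000 750 = true := by decide +kernel

theorem coset_okAt48750 : allFrom data.checkCoset 48750 750 = true := by decide +kernel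

theorem coset_okAt49500 : allFrom data.checkCoset 49500 480 = true := by decide +kernel

end Cfsg.Agent.CosetCert.HeCentIndex49980
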