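import Cfsg.Agent.CosetCert.HeCentIndex49980.CheckTable0
import Cfsg.Agent.CosetCert.HeCentIndex49980.CheckTable1
import Cfsg.Agent.CosetCert.HeCentIndex49980.CheckTable2
import Cfsg.Agent.CosetCert.HeCentIndex49980.CheckTable3
import Cfsg.Agent.CosetCert.HeCentIndex49980.CheckTable4
import Cfsg.Agent.CosetCert.HeCentIndex49980.CheckTable5
import Cfsg.Agent.CosetCert.HeCentIndex49980.CheckTable6

/-! Generated: kernel checks combined. -/

namespace Cfsg.Agent.CosetCert.HeCentIndex49980

theorem coset_ok : ∀ i, i < 49980 → data.checkCoset i = true := by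
  have h0 : ∀ i, i < 0 → data.checkCoset i = true := forall_lt_zero
  have h1 := forall_lt_step (b := 750) h0 coset_okAt0 rfl
  have h2 := forall_lt_step (b := 1500) h1 coset_okAt750 rfl
  have h3 := forall_lt_step (b := 2250) h2 coset_okAt1500 rfl
  have h4 := forall_lt_step (b := 3000) h3 coset_okAt2250 rfl
  have h5 := forall_lt_step (b := 3750) h4 coset_okAt3000 rfl
  have h6 := forall_lt_step (b := 4500) h5 coset_okAt3750 rfl
  have h7 := forall_lt_step (b := 5250) h6 coset_okAt4500 rfl
  have h8 := forall_lt_step (b := 6000) h7 coset_okAt5250 rfl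
  have h9 := forall_lt_step (b := 6750) h8 coset_okAt6000 rfl
  have h10 := forall_lt_step (b := 7500) h9 coset_okAt6750 rfl
  have h11 := forall_lt_step (b := 8250) h10 coset_okAt7500 rfl
  have h12 := forall_lt_step (b := 9000) h11 coset_okAt8250 rfl
  have h13 := forall_lt_step (b := 9750) h12 coset_okAt9000 rfl
  have h14 := forall_lt_step (b := 10500) h13 coset_okAt9750 rfl
  have h15 := forall_lt_step (b := 11250) h14 coset_okAt10500 rfl
  have h16 := forall_lt_step (b := 12000) h15 coset_okAt11250 rfl
  have h17 := forall_lt_step (b := 12750) h16 coset_okAt12000 rfl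
  have h18 := forall_lt_step (b := 13500) h17 coset_okAt12750 rfl
  have h19 := forall_lt_step (b := 14250) h18 coset_okAt13500 rfl
  have h20 := forall_lt_step (b := 15000) h19 coset_okAt14250 rfl
  have h21 := forall_lt_step (b := 15750) h20 coset_okAt15000 rfl
  have h22 := forall_lt_step (b := 16500) h21 coset_okAt15750 rfl
  have h23 := forall_lt_step (b := 17250) h22 coset_okAt16500 rfl
  have h24 := forall_lt_step (b := 18000) h23 coset_okAt17250 rfl
  have h25 := forall_lt_step (b := 18750) h24 coset_okAt18000 rfl
  have h26 := forall_lt_step (b := 19500) h25 coset_okAt18750 rfl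
  have h27 := forall_lt_step (b := 20250) h26 coset_okAt19500 rfl
  have h28 := forall_lt_step (b := 21000) h27 coset_okAt20250 rfl
  have h29 := forall_lt_step (b := 21750) h28 coset_okAt21000 rfl
  have h30 := forall_lt_step (b := 22500) h29 coset_okAt21750 rfl
  have h31 := forall_lt_step (b := 23250) h30 coset_okAt22500 rfl
  have h32 := forall_lt_step (b := 24000) h31 coset_okAt23250 rfl
  have h33 := forall_lt_step (b := 24750) h32 coset_okAt24000 rfl
  have h34 := forall_lt_step (b := 25500) h33 coset_okAt24750 rfl
  have h35 := forall_lt_step (b := 26250) h34 coset_okAt25500 rfl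
  have h36 := forall_lt_step (b := 27000) h35 coset_okAt26250 rfl
  have h37 := forall_lt_step (b := 27750) h36 coset_okAt27000 rfl
  have h38 := forall_lt_step (b := 28500) h37 coset_okAt27750 rfl
  have h39 := forall_lt_step (b := 29250) h38 coset_okAt28500 rfl
  have h40 := forall_lt_step (b := 30000) h39 coset_okAt29250 rfl
  have h41 := forall_lt_step (b := 30750) h40 coset_okAt30000 rfl
  have h42 := forall_lt_step (b := 31500) h41 coset_okAt30750 rfl
  have h43 := forall_lt_step (b := 32250) h42 coset_okAt31500 rfl
  have h44 := forall_lt_step (b := 33000) h43 coset_okAt32250 rfl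
  have h45 := forall_lt_step (b := 33750) h44 coset_okAt33000 rfl
  have h46 := forall_lt_step (b := 34500) h45 coset_okAt33750 rfl
  have h47 := forall_lt_step (b := 35250) h46 coset_okAt34500 rfl
  have h48 := forall_lt_step (b := 36000) h47 coset_okAt35250 rfl
  have h49 := forall_lt_step (b := 36750) h48 coset_okAt36000 rfl
  have h50 := forall_lt_step (b := 37500) h49 coset_okAt36750 rfl
  have h51 := forall_lt_step (b := 38250) h50 coset_okAt37500 rfl
  have h52 := forall_lt_step (b := 39000) h51 coset_okAt38250 rfl
  have h53 := forall_lt_step (b := 39750) h52 coset_okAt39000 rfl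
  have h54 := forall_lt_step (b := 40500) h53 coset_okAt39750 rfl
  have h55 := forall_lt_step (b := 41250) h54 coset_okAt40500 rfl
  have h56 := forall_lt_step (b := 42000) h55 coset_okAt41250 rfl
  have h57 := forall_lt_step (b := 42750) h56 coset_okAt42000 rfl
  have h58 := forall_lt_step (b := 43500) h57 coset_okAt42750 rfl
  have h59 := forall_lt_step (b := 44250) h58 coset_okAt43500 rfl
  have h60 := forall_lt_step (b := 45000) h59 coset_okAt44250 rfl
  have h61 := forall_lt_step (b := 45750) h60 coset_okAt45000 rfl
  have h62 := forall_lt_step (b := 46500) h61 coset_okAt45750 rfl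
  have h63 := forall_lt_step (b := 47250) h62 coset_okAt46500 rfl
  have h64 := forall_lt_step (b := 48000) h63 coset_okAt47250 rfl
  have h65 := forall_lt_step (b := 48750) h64 coset_okAt48000 rfl
  have h66 := forall_lt_step (b := 49500) h65 coset_okAt48750 rfl
  have h67 := forall_lt_step (b := 49980) h66 coset_okAt49500 rfl
  exact h67

end Cfsg.Agent.CosetCert.HeCentIndex49980
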