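import Cfsg.Agent.CosetCert.HeCentIndex49980.Defs

/-! Generated: kernel checks. -/

set_option Elab.async false

namespace Cfsg.Agent.CosetCert.HeCentIndex49980

theorem log_okAt75000 : allFrom data.checkLog 75000 2500 = true := by decide +kernel

theorem log_okAt77500 : allFrom data.checkLog 77500 2500 = true := by decide +kernel

theorem log_okAt80000 : allFrom data.checkLog 80000 2500 = true := by decide +kernel

theorem log_okAt82500 : allFrom data.checkLog 82500 2500 = true := by decide +kernel

theorem log_okAt85000 : allFrom data.checkLog 85000 2500 = true := by decide +kernel

theorem log_okAt87500 : allFrom data.checkLog 87500 2500 = true := by decide +kernel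

theorem log_okAt90000 : allFrom data.checkLog 90000 2500 = true := by decide +kernel

theorem log_okAt92500 : allFrom data.checkLog 92500 2500 = true := by decide +kernel

theorem log_okAt95000 : allFrom data.checkLog 95000 2500 = true := by decide +kernel

theorem log_okAt97500 : allFrom data.checkLog 97500 2500 = true := by decide +kernel

end Cfsg.Agent.CosetCert.HeCentIndex49980
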