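import Cfsg.Agent.CosetCert.HeCentIndex49980.Defs

/-! Generated: kernel checks. -/

set_option Elab.async false

namespace Cfsg.Agent.CosetCert.HeCentIndex49980

theorem log_okAt100000 : allFrom data.checkLog 100000 2500 = true := by decide +kernel

theorem log_okAt102500 : allFrom data.checkLog 102500 2500 = true := by decide +kernel

theorem log_okAt105000 : allFrom data.checkLog 105000 2500 = true := by decide +kernel

theorem log_okAt107500 : allFrom data.checkLog 107500 2500 = true := by decide +kernel

theorem log_okAt110000 : allFrom data.checkLog 110000 2500 = true := by decide +kernel

theorem log_okAt112500 : allFrom data.checkLog 112500 2500 = true := by decide +kernel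

theorem log_okAt115000 : allFrom data.checkLog 115000 2500 = true := by decide +kernel

theorem log_okAt117500 : allFrom data.checkLog 117500 2500 = true := by decide +kernel

theorem log_okAt120000 : allFrom data.checkLog 120000 2500 = true := by decide +kernel

theorem log_okAt122500 : allFrom data.checkLog 122500 2500 = true := by decide +kernel

end Cfsg.Agent.CosetCert.HeCentIndex49980
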