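import Cfsg.Agent.CosetCert.HeCentIndex49980.Defs

/-! Generated: kernel checks. -/

set_option Elab.async false

namespace Cfsg.Agent.CosetCert.HeCentIndex49980

theorem log_okAt125000 : allFrom data.checkLog 125000 2500 = true := by decide +kernel

theorem log_okAt127500 : allFrom data.checkLog 127500 2500 = true := by decide +kernel

theorem log_okAt130000 : allFrom data.checkLog 130000 2500 = true := by decide +kernel

theorem log_okAt132500 : allFrom data.checkLog 132500 2500 = true := by decide +kernel

theorem log_okAt135000 : allFrom data.checkLog 135000 2500 = true := by decide +kernel

theorem log_okAt137500 : allFrom data.checkLog 137500 2500 = true := by decide +kernel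

theorem log_okAt140000 : allFrom data.checkLog 140000 2500 = true := by decide +kernel

theorem log_okAt142500 : allFrom data.checkLog 142500 2500 = true := by decide +kernel

theorem log_okAt145000 : allFrom data.checkLog 145000 2500 = true := by decide +kernel

theorem log_okAt147500 : allFrom data.checkLog 147500 2500 = true := by decide +kernel

end Cfsg.Agent.CosetCert.HeCentIndex49980
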