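import Cfsg.Agent.CosetCert.HeCentIndex49980.Defs

/-! Generated: kernel checks. -/

set_option Elab.async false

namespace Cfsg.Agent.CosetCert.HeCentIndex49980

theorem log_okAt175000 : allFrom data.checkLog 175000 2500 = true := by decide +kernel

theorem log_okAt177500 : allFrom data.checkLog 177500 366 = true := by decide +kernel

end Cfsg.Agent.CosetCert.HeCentIndex49980
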