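import Cfsg.Agent.CosetCert.HeCentIndex49980.Defs

/-! Generated: kernel checks. -/

set_option Elab.async false

namespace Cfsg.Agent.CosetCert.HeCentIndex49980

theorem coset_okAt0 : allFrom data.checkCoset 0 750 = true := by decide +kernel

theorem coset_okAt750 : allFrom data.checkCoset 750 750 = true := by decide +kernel

theorem coset_okAt1500 : allFrom data.checkCoset 1500 750 = true := by decide +kernel

theorem coset_okAt2250 : allFrom data.checkCoset 2250 750 = true := by decide +kernel

theorem coset_okAt3000 : allFrom data.checkCoset 3000 750 = true := by decide +kernel

theorem coset_okAt3750 : allFrom data.checkCoset 3750 750 = true := by decide +kernel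

theorem coset_okAt4500 : allFrom data.checkCoset 4500 750 = true := by decide +kernel

theorem coset_okAt5250 : allFrom data.checkCoset 5250 750 = true := by decide +kernel

theorem coset_okAt6000 : allFrom data.checkCoset 6000 750 = true := by decide +kernel

theorem coset_okAt6750 : allFrom data.checkCoset 6750 750 = true := by decide +kernel

end Cfsg.Agent.CosetCert.HeCentIndex49980
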