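import Cfsg.Agent.CosetCert.HeCentIndex49980.Cert
import Cfsg.Agent.CosetCert.Cox
import Cfsg.Agent.CosetCert.HeSp44.Defs

/-! Generated: the index bound. -/

namespace Cfsg.Agent.CosetCert.HeCentIndex49980

theorem spells : Data.Spells data (Cfsg.Spor.coxRelators Cfsg.Spor.He.edges ∪ {r | r ∈ Cfsg.Spor.He.extra})
    subGens HeSp44.enc HeSp44.dec (coxWords HeSp44.genList Cfsg.Spor.He.edges Cfsg.Spor.He.extra) := by
  apply spells_cox data HeSp44.genList
  · intro z; cases z <;> decide
  · intro z; cases z <;> exact ⟨by decide +kernel, by decide +kernel, rfl⟩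
  · show ∀ x, x < 7 → _
    intro x hx
    interval_cases x <;> exact ⟨by decide +kernel, by decide +kernel, rfl⟩
  · intro z; cases z <;> decide
  · decide +kernel
  · decide +kernel

theorem index_bound : (Data.sub (Cfsg.Spor.coxRelators Cfsg.Spor.He.edges ∪ {r | r ∈ Cfsg.Spor.He.extra}) subGens).index ≠ 0 ∧
    (Data.sub (Cfsg.Spor.coxRelators Cfsg.Spor.He.edges ∪ {r | r ∈ Cfsg.Spor.He.extra}) subGens).index ≤ 49980 :=
  Data.index_le log_valid spells

end Cfsg.Agent.CosetCert.HeCentIndex49980
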